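import Mathlib

/-!
# The Sylow `p`-subgroup of `GL_p(q)` when `p` exactly divides `q - 1`

It consists of the monomial matrices with entries `p`-th roots of unity and cyclic permutation part.
-/

set_option autoImplicit false

namespace Cfsg.Agent.Lib.RedundantGL

open Matrix

variable {F : Type*} [Field F] {p : ℕ}

/-- The monomial matrix with entries `a i` at `(i, i + c)`. -/
def mon (a : Fin p → F) (c : Fin p) : Matrix (Fin p) (Fin p) F :=
  Matrix.of fun i j => if j = i + c then a i else 0

variable [NeZero p]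

theorem mon_apply (a : Fin p → F) (c i j : Fin p) :
    mon a c i j = if j = i + c then a i else 0 := rfl

theorem mon_mul_apply (a : Fin p → F) (c : Fin p) (B : Matrix (Fin p) (Fin p) F) (i k : Fin p) :
    (mon a c * B) i k = a i * B (i + c) k := by
  simp [Matrix.mul_apply, mon_apply, ite_mul]

theorem mon_mul (a b : Fin p → F) (c d : Fin p) :
    mon a c * mon b d = mon (fun i => a i * b (i + c)) (c + d) := by
  ext i k
  rw [mon_mul_apply, mon_apply, mon_apply, add_assoc]
  split <;> simp

theorem mon_one : mon (fun _ => (1 : F)) (0 : Fin p) = 1 := by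
  ext i j
  simp [mon_apply, Matrix.one_apply, eq_comm]

theorem mon_inj {a b : Fin p → F} {c d : Fin p} (ha : ∀ i, a i ≠ 0) (h : mon a c = mon b d) :
    a = b ∧ c = d := by
  have key : ∀ i, i + c = i + d ∧ a i = b i := by
    intro i
    have e := congrFun (congrFun h i) (i + c)
    rw [mon_apply, mon_apply, if_pos rfl] at e
    by_cases hcd : i + c = i + d
    · exact ⟨hcd, by rwa [if_pos hcd] at e⟩
    · exact absurd (by rwa [if_neg hcd] at e) (ha i)
  exact ⟨funext fun i => (key i).2, add_left_cancel (key 0).1⟩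

/-- The monomial matrices with entries `p`-th roots of unity, as a subgroup of `GL_p`. -/
def monSub (p : ℕ) [NeZero p] (F : Type*) [Field F] : Subgroup (GL (Fin p) F) where
  carrier := {g | ∃ a c, (∀ i, a i ^ p = 1) ∧ (g : Matrix (Fin p) (Fin p) F) = mon a c}
  one_mem' := ⟨fun _ => 1, 0, fun _ => one_pow p, by rw [Units.val_one, mon_one]⟩
  mul_mem' := by
    rintro g h ⟨a, c, ha, hg⟩ ⟨b, d, hb, hh⟩
    exact ⟨fun i => a i * b (i + c), c + d,
      fun i => by rw [mul_pow, ha, hb, one_mul], by rw [Units.val_mul, hg, hh, mon_mul]⟩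
  inv_mem' := by
    rintro g ⟨a, c, ha, hg⟩
    refine ⟨fun i => (a (i - c))⁻¹, -c, fun i => by rw [inv_pow, ha, inv_one], ?_⟩
    apply Units.inv_eq_of_mul_eq_one_right
    have hne : ∀ i, a i ≠ 0 := fun i h => by
      simpa [h, zero_pow (NeZero.ne p)] using ha i
    rw [hg, mon_mul, add_neg_cancel, ← mon_one]
    congr 1
    funext i
    rw [add_sub_cancel_right, mul_inv_cancel₀ (hne i)]

theorem mem_monSub {g : GL (Fin p) F} :
    g ∈ monSub p F ↔ ∃ a c, (∀ i, a i ^ p = 1) ∧ (g : Matrix (Fin p) (Fin p) F) = mon a c :=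
  Iff.rfl

theorem root_ne_zero {z : F} (h : z ^ p = 1) : z ≠ 0 := fun h0 => by
  simp [h0, zero_pow (NeZero.ne p)] at h

/-- The invertible monomial matrix. -/
def monGL (a : Fin p → {z : F // z ^ p = 1}) (c : Fin p) : GL (Fin p) F where
  val := mon (fun i => (a i : F)) c
  inv := mon (fun i => (a (i - c) : F)⁻¹) (-c)
  val_inv := by
    rw [mon_mul, add_neg_cancel, ← mon_one]
    congr 1; funext i
    rw [add_sub_cancel_right, mul_inv_cancel₀ (root_ne_zero (a i).2)]
  inv_val := by
    rw [mon_mul, neg_add_cancel, ← mon_one]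
    congr 1; funext i
    rw [← sub_eq_add_neg, inv_mul_cancel₀ (root_ne_zero (a _).2)]

theorem monGL_mem (a : Fin p → {z : F // z ^ p = 1}) (c : Fin p) : monGL a c ∈ monSub p F :=
  ⟨_, c, fun i => (a i).2, rfl⟩

theorem card_roots (hp : 0 < p) {ω : F} (hω : IsPrimitiveRoot ω p) :
    Nat.card {z : F // z ^ p = 1} = p := by
  have : Function.Bijective (fun k : Fin p => (⟨ω ^ (k : ℕ), by
      rw [← pow_mul, mul_comm, pow_mul, hω.pow_eq_one, one_pow]⟩ : {z : F // z ^ p = 1})) := by
    constructor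
    · intro k l h
      exact Fin.ext (hω.pow_inj k.2 l.2 (congrArg Subtype.val h))
    · rintro ⟨z, hz⟩
      obtain ⟨i, hi, he⟩ := hω.eq_pow_of_pow_eq_one hz
      exact ⟨⟨i, hi⟩, Subtype.ext he⟩
  rw [← Nat.card_eq_of_bijective _ this, Nat.card_fin]

theorem card_monSub [Fintype F] {ω : F} (hω : IsPrimitiveRoot ω p) :
    Nat.card ↥(monSub p F) = p ^ (p + 1) := by
  have : Function.Bijective (fun x : (Fin p → {z : F // z ^ p = 1}) × Fin p =>
      (⟨monGL x.1 x.2, monGL_mem _ _⟩ : ↥(monSub p F))) := by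
    constructor
    · rintro ⟨a, c⟩ ⟨b, d⟩ h
      have h' := congrArg (fun g : ↥(monSub p F) =>
        ((g : GL (Fin p) F) : Matrix (Fin p) (Fin p) F)) h
      obtain ⟨e, rfl⟩ := mon_inj (fun i => root_ne_zero (a i).2) h'
      exact Prod.ext (funext fun i => Subtype.ext (congrFun e i)) rfl
    · rintro ⟨g, a, c, ha, hg⟩
      exact ⟨(fun i => ⟨a i, ha i⟩, c), Subtype.ext (Units.ext hg.symm)⟩
  rw [← Nat.card_eq_of_bijective _ this, Nat.card_prod, Nat.card_fun,
    card_roots (Nat.pos_of_ne_zero (NeZero.ne p)) hω, Nat.card_fin, pow_succ]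

theorem diag_apply (b : Fin p → F) (i j : Fin p) :
    mon b 0 i j = if j = i then b i else 0 := by simp [mon_apply]

theorem mul_diag_apply (b : Fin p → F) (B : Matrix (Fin p) (Fin p) F) (i k : Fin p) :
    (B * mon b 0) i k = B i k * b k := by
  simp [Matrix.mul_apply, mon_apply]

theorem diag_mul_apply (b : Fin p → F) (B : Matrix (Fin p) (Fin p) F) (i k : Fin p) :
    (mon b 0 * B) i k = b i * B i k := by
  rw [mon_mul_apply, add_zero]

end Cfsg.Agent.Lib.RedundantGL
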