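import Mathlib
import Cfsg.Agent.Lib.RedundantGL.Monomial

/-!
# Every element of the monomial subgroup lies in another conjugate of it
-/

set_option autoImplicit false

namespace Cfsg.Agent.Lib.RedundantGL

open Matrix

variable {F : Type*} [Field F] [Fintype F] {p : ℕ} [Fact p.Prime]

theorem exists_eq_nsmul (c i : Fin p) (hc : c ≠ 0) : ∃ k : ℕ, k < p ∧ k • c = i := by
  have hp : p.Prime := Fact.out
  have hord : addOrderOf c = p := by
    have h1 : addOrderOf c ∣ p := by simpa using addOrderOf_dvd_natCard (x := c)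
    rcases (Nat.dvd_prime hp).1 h1 with h | h
    · exact absurd (AddMonoid.addOrderOf_eq_one_iff.1 h) hc
    · exact h
  have hinj : Function.Injective (fun k : Fin p => (k : ℕ) • c) := fun k l h =>
    Fin.ext (nsmul_injOn_Iio_addOrderOf (hord.symm ▸ k.2 : (k : ℕ) < addOrderOf c)
      (hord.symm ▸ l.2 : (l : ℕ) < addOrderOf c) h)
  obtain ⟨k, hk⟩ := (Finite.injective_iff_surjective.1 hinj) i
  exact ⟨k, k.2, hk⟩

/-- An element of the monomial subgroup commuting with a monomial matrix of nonzero shift is
determined by its shift and one entry. -/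
theorem commute_determined {a : Fin p → F} {c : Fin p} (hc : c ≠ 0) (ha : ∀ i, a i ≠ 0)
    {b b' : Fin p → F} (hb : ∀ i, b i ≠ 0) (hb' : ∀ i, b' i ≠ 0) {d : Fin p}
    (h : mon a c * mon b d = mon b d * mon a c) (h' : mon a c * mon b' d = mon b' d * mon a c)
    (h0 : b 0 = b' 0) : b = b' := by
  rw [mon_mul, mon_mul] at h h'
  have e := (mon_inj (fun i => mul_ne_zero (ha i) (hb _)) h).1
  have e' := (mon_inj (fun i => mul_ne_zero (ha i) (hb' _)) h').1
  funext i
  obtain ⟨k, -, rfl⟩ := exists_eq_nsmul c i hc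
  induction k with
  | zero => simpa using h0
  | succ k ih =>
    have u := congrFun e (k • c)
    have u' := congrFun e' (k • c)
    rw [succ_nsmul]
    refine mul_left_cancel₀ (ha (k • c)) ?_
    rw [u, u', ih]

variable {ω : F}

theorem diag_not_embed (hω : IsPrimitiveRoot ω p) (h3 : 3 ≤ p) {x : GL (Fin p) F}
    {a : Fin p → F} {c : Fin p} (hc : c ≠ 0) (ha : ∀ i, a i ^ p = 1)
    (hx : (x : Matrix (Fin p) (Fin p) F) = mon a c) (φ : GL (Fin p) F →* GL (Fin p) F)
    (hφ : Function.Injective φ)
    (hQ : ∀ d : Fin p → {z : F // z ^ p = 1}, φ (monGL d 0) ∈ monSub p F)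
    (hC : ∀ d : Fin p → {z : F // z ^ p = 1}, x * φ (monGL d 0) = φ (monGL d 0) * x) : False := by
  choose b e hb he using hQ
  have inj : Function.Injective (fun d : Fin p → {z : F // z ^ p = 1} =>
      ((e d, ⟨b d 0, hb d 0⟩) : Fin p × {z : F // z ^ p = 1})) := by
    intro d d' h
    simp only [Prod.mk.injEq, Subtype.mk.injEq] at h
    have hbb : b d = b d' := by
      refine commute_determined (d := e d) hc (fun i => root_ne_zero (ha i))
        (fun i => root_ne_zero (hb d i)) (fun i => root_ne_zero (hb d' i)) ?_ ?_ h.2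
      · rw [← hx, ← he d, ← Units.val_mul, ← Units.val_mul, hC]
      · rw [h.1, ← hx, ← he d', ← Units.val_mul, ← Units.val_mul, hC]
    have : monGL d 0 = monGL d' 0 := hφ (Units.ext (by rw [he, he, hbb, h.1]))
    have h2 := congrArg (fun g : GL (Fin p) F => (g : Matrix (Fin p) (Fin p) F)) this
    exact funext fun i => Subtype.ext (congrFun (mon_inj (fun i => root_ne_zero (d i).2) h2).1 i)
  have key := Nat.card_le_card_of_injective _ inj
  rw [Nat.card_fun, Nat.card_prod, card_roots (NeZero.pos p) hω, Nat.card_fin] at key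
  have : p ^ 3 ≤ p ^ p := Nat.pow_le_pow_right (by omega) h3
  nlinarith [pow_succ p 2, sq p]

theorem conj_mem_of_mem_normalizer {g h : GL (Fin p) F}
    (hg : g ∈ Subgroup.normalizer (monSub p F : Set (GL (Fin p) F))) (hh : h ∈ monSub p F) :
    g * h * g⁻¹ ∈ monSub p F :=
  (Subgroup.mem_normalizer_iff.1 hg h).1 hh

theorem moved_of_repeated (hω : IsPrimitiveRoot ω p) (h3 : 3 ≤ p) {x : GL (Fin p) F}
    {a : Fin p → F} (hx : (x : Matrix (Fin p) (Fin p) F) = mon a 0) {i j : Fin p} (hij : i ≠ j)
    (haij : a i = a j) :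
    ∃ g : GL (Fin p) F, g ∉ Subgroup.normalizer (monSub p F : Set (GL (Fin p) F)) ∧
      g * x = x * g := by
  set T : Matrix (Fin p) (Fin p) F := transvection i j 1 with hT
  have hdet : T.det ≠ 0 := by rw [hT, det_transvection_of_ne i j hij]; exact one_ne_zero
  refine ⟨GeneralLinearGroup.mkOfDetNeZero T hdet, fun hg => ?_, ?_⟩
  · set d : Fin p → {z : F // z ^ p = 1} :=
      Function.update (fun _ => ⟨1, one_pow p⟩) i ⟨ω, hω.pow_eq_one⟩
    have := conj_mem_of_mem_normalizer hg (monGL_mem d 0)
    obtain ⟨b, e, hb, he⟩ := this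
    have h1 : T * mon (fun k => (d k : F)) 0 = mon b e * T := by
      have := congrArg (fun g : GL (Fin p) F => (g : Matrix (Fin p) (Fin p) F))
        (inv_mul_cancel_right (GeneralLinearGroup.mkOfDetNeZero T hdet * monGL d 0)
          (GeneralLinearGroup.mkOfDetNeZero T hdet))
      simp only [Units.val_mul] at this
      rw [← Units.val_mul, ← Units.val_mul, he] at this
      exact this.symm
    have hii := congrFun (congrFun h1 i) i
    have hij' := congrFun (congrFun h1 i) j
    rw [mul_diag_apply, mon_mul_apply] at hii hij'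
    have di : (d i : F) = ω := by simp [d]
    have dj : (d j : F) = 1 := by simp [d, Ne.symm hij]
    have hω1 : ω ≠ 1 := hω.ne_one (by omega)
    simp only [hT, transvection, Matrix.add_apply, Matrix.single_apply, Matrix.one_apply, di, dj,
      hij, Ne.symm hij, and_self, true_and, and_true, if_true, if_false, one_mul, zero_add,
      add_zero, zero_mul] at hii hij'
    by_cases he0 : i + e = i
    · simp only [he0, if_true, Ne.symm hij, hij, if_false, zero_add, mul_one, and_self] at hii hij'
      rw [← hij'] at hii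
      exact hω1 (by simpa [Ne.symm hij] using hii)
    · have hne : ¬ i = i + e := fun h => he0 h.symm
      simp only [he0, hne, false_and, if_false, add_zero, mul_zero] at hii
      exact root_ne_zero hω.pow_eq_one hii
  · refine Units.ext ?_
    show T * (x : Matrix (Fin p) (Fin p) F) = (x : Matrix (Fin p) (Fin p) F) * T
    rw [hx]
    ext k l
    rw [mul_diag_apply, diag_mul_apply]
    simp only [hT, transvection, Matrix.add_apply, Matrix.single_apply, Matrix.one_apply]
    by_cases hkl : k = l
    · subst hkl; ring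
    · by_cases h : i = k ∧ j = l
      · obtain ⟨rfl, rfl⟩ := h
        rw [haij]; ring
      · simp [hkl, h]

theorem moved_of_injective (hω : IsPrimitiveRoot ω p) (h3 : 3 ≤ p) {x : GL (Fin p) F}
    {a : Fin p → F} (hx : (x : Matrix (Fin p) (Fin p) F) = mon a 0) (ha : ∀ i, a i ^ p = 1)
    (hinj : Function.Injective a) :
    ∃ g : GL (Fin p) F, g ∉ Subgroup.normalizer (monSub p F : Set (GL (Fin p) F)) ∧
      g * x * g⁻¹ ∈ monSub p F := by
  haveI : Fact (1 < p) := ⟨by omega⟩
  set W : Matrix (Fin p) (Fin p) F := (vandermonde a)ᵀ with hW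
  have hdet : W.det ≠ 0 := by
    rw [hW, det_transpose]; exact det_vandermonde_ne_zero_iff.2 hinj
  set g : GL (Fin p) F := GeneralLinearGroup.mkOfDetNeZero W hdet with hgdef
  set s : GL (Fin p) F := monGL (fun _ => ⟨1, one_pow p⟩) 1 with hs
  have hgv : (g : Matrix (Fin p) (Fin p) F) = W := rfl
  have hconj : g * x = s * g := by
    refine Units.ext ?_
    rw [Units.val_mul, Units.val_mul, hgv, hx]
    show W * mon a 0 = mon (fun _ => (1 : F)) 1 * W
    ext i k
    rw [mul_diag_apply, mon_mul_apply, one_mul]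
    simp only [hW, transpose_apply, vandermonde_apply]
    rw [← pow_succ, Fin.val_add, Fin.val_one', Nat.add_mod_mod]
    exact pow_eq_pow_mod _ (ha k)
  have hgx : g * x * g⁻¹ = s := by rw [hconj, mul_inv_cancel_right]
  refine ⟨g, fun hg => ?_, hgx ▸ monGL_mem _ _⟩
  refine diag_not_embed hω h3 (x := s) (a := fun _ => 1) (c := 1) (by simp [Fin.ext_iff, Fin.val_one', Nat.mod_eq_of_lt (show 1 < p by omega)]) (fun _ => one_pow p)
    rfl (MulAut.conj g).toMonoidHom (MulAut.conj g).injective
    (fun d => conj_mem_of_mem_normalizer hg (monGL_mem d 0)) (fun d => ?_)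
  show s * (g * monGL d 0 * g⁻¹) = g * monGL d 0 * g⁻¹ * s
  have hc : x * monGL d 0 = monGL d 0 * x := by
    refine Units.ext ?_
    rw [Units.val_mul, Units.val_mul, hx]
    show mon a 0 * mon _ 0 = mon _ 0 * mon a 0
    rw [mon_mul, mon_mul]
    simp [mul_comm]
  rw [← hgx]
  calc g * x * g⁻¹ * (g * monGL d 0 * g⁻¹) = g * (x * monGL d 0) * g⁻¹ := by group
    _ = g * monGL d 0 * g⁻¹ * (g * x * g⁻¹) := by rw [hc]; group

theorem mon_pow_apply_eigen {a : Fin p → F} {c : Fin p} (hc : c ≠ 0)
    (ha : ∀ i, a i ^ p = 1) (hprod : ∏ k ∈ Finset.range p, a (k • c) = 1) (hω : IsPrimitiveRoot ω p) :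
    ∃ V : Matrix (Fin p) (Fin p) F, V.det ≠ 0 ∧
      mon a c * V = V * mon (fun j : Fin p => ω ^ (j : ℕ)) 0 := by
  have hne : ∀ i, a i ≠ 0 := fun i => root_ne_zero (ha i)
  choose idx hidx1 hidx2 using fun i => exists_eq_nsmul c i hc
  set P : ℕ → F := fun k => ∏ l ∈ Finset.range k, a (l • c) with hP
  have hPne : ∀ k, P k ≠ 0 := fun k => Finset.prod_ne_zero_iff.2 fun l _ => hne _
  have hinj : Function.Injective idx := fun i j h => by rw [← hidx2 i, ← hidx2 j, h]
  refine ⟨Matrix.of fun i j => (P (idx i))⁻¹ * (vandermonde fun i => ω ^ idx i) i j, ?_, ?_⟩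
  · rw [det_mul_column]
    refine mul_ne_zero (Finset.prod_ne_zero_iff.2 fun i _ => inv_ne_zero (hPne _))
      (det_vandermonde_ne_zero_iff.2 fun i j h => hinj (hω.pow_inj (hidx1 i) (hidx1 j) h))
  · ext i j
    rw [mon_mul_apply, mul_diag_apply]
    simp only [Matrix.of_apply, vandermonde_apply]
    have hi : i + c = (idx i + 1) • c := by rw [succ_nsmul, hidx2]
    rcases Nat.lt_or_ge (idx i + 1) p with hlt | hge
    · have hx : idx (i + c) = idx i + 1 := by
        by_contra hne'
        have h2 : idx (i + c) • c = (idx i + 1) • c := by rw [hidx2, hi]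
        have hord : addOrderOf c = p := by
          have h1 : addOrderOf c ∣ p := by simpa using addOrderOf_dvd_natCard (x := c)
          rcases (Nat.dvd_prime Fact.out).1 h1 with h | h
          · exact absurd (AddMonoid.addOrderOf_eq_one_iff.1 h) hc
          · exact h
        exact hne' (nsmul_injOn_Iio_addOrderOf (hord.symm ▸ hidx1 _ : idx (i + c) < addOrderOf c)
          (hord.symm ▸ hlt : idx i + 1 < addOrderOf c) h2)
      have hP' : P (idx i + 1) = P (idx i) * a i := by
        simp only [hP, Finset.prod_range_succ, hidx2]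
      rw [hx, hP', mul_inv, pow_succ, mul_pow]
      field_simp [hne i, hPne]
    · have he : idx i + 1 = p := le_antisymm (hidx1 i) hge
      have hz : idx (i + c) = 0 := by
        have h0 : i + c = 0 := by
          rw [hi, he]
          have := card_nsmul_eq_zero' (x := c)
          simpa using this
        by_contra hne'
        have h2 : idx (i + c) • c = 0 := by rw [hidx2, h0]
        have h1 : addOrderOf c ∣ idx (i + c) := addOrderOf_dvd_of_nsmul_eq_zero h2
        have h3 : addOrderOf c ∣ p := by simpa using addOrderOf_dvd_natCard (x := c)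
        rcases (Nat.dvd_prime Fact.out).1 h3 with h | h
        · exact hc (AddMonoid.addOrderOf_eq_one_iff.1 h)
        · rw [h] at h1
          exact absurd (Nat.le_of_dvd (Nat.pos_of_ne_zero hne') h1) (not_le.2 (hidx1 _))
      have hP' : P (idx i) * a i = 1 := by
        have e := Finset.prod_range_succ (fun l => a (l • c)) (idx i)
        simp only [he, hprod, hidx2] at e
        exact e.symm
      rw [hz]
      have hw : ω ^ idx i * ω = 1 := by rw [← pow_succ, he, hω.pow_eq_one]
      simp only [pow_zero, one_pow, hP, Finset.range_zero, Finset.prod_empty, inv_one, mul_one]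
      rw [inv_eq_of_mul_eq_one_right hP', mul_assoc, ← mul_pow, hw, one_pow, mul_one]

end Cfsg.Agent.Lib.RedundantGL
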