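import Mathlib
import Cfsg.Agent.Lib.RedundantGL.Conjugate

/-!
# The monomial Sylow subgroup is redundant
-/

set_option autoImplicit false

namespace Cfsg.Agent.Lib.RedundantGL

open Matrix

variable {F : Type*} [Field F] [Fintype F] {p : ℕ} [Fact p.Prime] {ω : F}

theorem det_sub_one_ne_zero {a : Fin p → F} {c : Fin p} (hc : c ≠ 0) (ha : ∀ i, a i ^ p = 1)
    (hprod : ∏ k ∈ Finset.range p, a (k • c) ≠ 1) : (mon a c - 1).det ≠ 0 := by
  intro h
  obtain ⟨v, hv0, hv⟩ := Matrix.exists_mulVec_eq_zero_iff.2 h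
  have hstep : ∀ i, a i * v (i + c) = v i := by
    intro i
    have := congrFun hv i
    rw [Matrix.sub_mulVec, Matrix.one_mulVec, Pi.sub_apply, Pi.zero_apply, sub_eq_zero] at this
    rw [← this]
    simp [Matrix.mulVec, dotProduct, mon_apply, ite_mul]
  have hall : ∀ k : ℕ, (∏ l ∈ Finset.range k, a (l • c)) * v (k • c) = v 0 := by
    intro k
    induction k with
    | zero => simp
    | succ k ih => rw [Finset.prod_range_succ, mul_assoc, succ_nsmul, hstep, ih]
  have h0 : v 0 = 0 := by
    have h1 := hall p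
    have hpc : p • c = 0 := by
      have := card_nsmul_eq_zero' (x := c)
      simpa using this
    rw [hpc] at h1
    by_contra hne
    exact hprod (mul_right_cancel₀ hne (by rw [h1, one_mul]))
  apply hv0
  funext i
  obtain ⟨k, -, rfl⟩ := exists_eq_nsmul c i hc
  have h1 := hall k
  rw [h0] at h1
  exact (mul_eq_zero.1 h1).resolve_left
    (Finset.prod_ne_zero_iff.2 fun l _ => root_ne_zero (ha _))

theorem sub_one_not_normalizes (hω : IsPrimitiveRoot ω p) (h3 : 3 ≤ p) {a : Fin p → F} {c : Fin p}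
    (hc : c ≠ 0) (ha : ∀ i, a i ^ p = 1) (g : GL (Fin p) F)
    (hg : (g : Matrix (Fin p) (Fin p) F) = mon a c - 1) :
    g ∉ Subgroup.normalizer (monSub p F : Set (GL (Fin p) F)) := by
  intro hN
  have hcc : c + c ≠ 0 := by
    intro h
    apply hc
    have hpc : p • c = 0 := by
      have := card_nsmul_eq_zero' (x := c)
      simpa using this
    obtain ⟨k, hk⟩ := (Fact.out : p.Prime).odd_of_ne_two (by omega)
    have h' : (2 * k + 1) • c = 0 := (congrArg (fun n : ℕ => n • c) hk).symm.trans hpc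
    rw [succ_nsmul, mul_nsmul, two_nsmul, h, smul_zero, zero_add] at h'
    exact h'
  set d : Fin p → {z : F // z ^ p = 1} :=
    Function.update (fun _ => ⟨1, one_pow p⟩) 0 ⟨ω, hω.pow_eq_one⟩
  obtain ⟨b, e, hb, he⟩ := conj_mem_of_mem_normalizer hN (monGL_mem d 0)
  have h1 : (mon a c - 1) * mon (fun k => (d k : F)) 0 = mon b e * (mon a c - 1) := by
    have := congrArg (fun g : GL (Fin p) F => (g : Matrix (Fin p) (Fin p) F))
      (inv_mul_cancel_right (g * monGL d 0) g)
    simp only [Units.val_mul] at this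
    rw [← Units.val_mul, ← Units.val_mul, he, Units.val_mul, hg] at this
    exact this.symm
  have ent : ∀ i k, (mon a c - 1 : Matrix (Fin p) (Fin p) F) i k * (d k : F) =
      b i * (mon a c - 1 : Matrix (Fin p) (Fin p) F) (i + e) k := by
    intro i k
    have := congrFun (congrFun h1 i) k
    rwa [mul_diag_apply, mon_mul_apply] at this
  have hine : ∀ i : Fin p, i ≠ i + c := fun i h => hc (left_eq_add.1 h)
  have hdne : ∀ i, (d i : F) ≠ 0 := fun i => root_ne_zero (d i).2
  by_cases he0 : e = 0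
  · subst he0
    have hd : ∀ i, (d (i + c) : F) = d i := by
      intro i
      have e1 := ent i i
      have e2 := ent i (i + c)
      simp only [Matrix.sub_apply, mon_apply, add_zero, hine i, if_false, if_true,
        Matrix.one_apply_eq, Matrix.one_apply_ne (hine i), zero_sub, sub_zero, neg_mul, one_mul,
        mul_neg, mul_one] at e1 e2
      rw [neg_inj] at e1
      rw [← e1, mul_comm (d i : F)] at e2
      exact mul_left_cancel₀ (root_ne_zero (ha i)) e2
    have := hd 0
    simp [d, hc] at this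
    exact hω.ne_one (by omega) this.symm
  · have hie : ∀ i : Fin p, i + e ≠ i := fun i h => he0 (add_eq_left.1 h)
    have e1 := ent 0 0
    simp only [Matrix.sub_apply, mon_apply, zero_add, Ne.symm hc, if_false, Matrix.one_apply_eq,
      Matrix.one_apply_ne he0, zero_sub, sub_zero, neg_mul, one_mul] at e1
    by_cases hec : e + c = 0
    · have e2 := ent 0 c
      have h1' : ¬ c = e + c := fun h => he0 (right_eq_add.1 h)
      have h2' : e ≠ c := fun h => hcc (h ▸ hec)
      simp only [Matrix.sub_apply, mon_apply, zero_add, if_true, h1', if_false,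
        Matrix.one_apply_ne (Ne.symm hc), Matrix.one_apply_ne h2', sub_zero, mul_zero] at e2
      exact mul_ne_zero (root_ne_zero (ha 0)) (hdne c) e2
    · rw [if_neg (Ne.symm hec), mul_zero, neg_eq_zero] at e1
      exact hdne 0 e1

theorem moved (hω : IsPrimitiveRoot ω p) (h3 : 3 ≤ p) {x : GL (Fin p) F} (hx : x ∈ monSub p F) :
    ∃ g : GL (Fin p) F, g ∉ Subgroup.normalizer (monSub p F : Set (GL (Fin p) F)) ∧
      g * x * g⁻¹ ∈ monSub p F := by
  obtain ⟨a, c, ha, hxa⟩ := hx
  by_cases hc : c = 0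
  · subst hc
    by_cases hinj : Function.Injective a
    · exact moved_of_injective hω h3 hxa ha hinj
    · simp only [Function.Injective, not_forall] at hinj
      obtain ⟨i, j, hij, hne⟩ := hinj
      obtain ⟨g, hg, hgx⟩ := moved_of_repeated hω h3 hxa hne hij
      exact ⟨g, hg, by rw [hgx, mul_inv_cancel_right]; exact ⟨a, 0, ha, hxa⟩⟩
  by_cases hprod : ∏ k ∈ Finset.range p, a (k • c) = 1
  · obtain ⟨V, hV, hVe⟩ := mon_pow_apply_eigen hc ha hprod hω
    set g : GL (Fin p) F := GeneralLinearGroup.mkOfDetNeZero V hV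
    set D : GL (Fin p) F := monGL (fun j : Fin p => ⟨ω ^ (j : ℕ), by
      rw [← pow_mul, mul_comm, pow_mul, hω.pow_eq_one, one_pow]⟩) 0
    have he : x * g = g * D := Units.ext (by rw [Units.val_mul, Units.val_mul, hxa]; exact hVe)
    have hxe : g⁻¹ * x * g = D := by rw [mul_assoc, he, inv_mul_cancel_left]
    refine ⟨g⁻¹, fun hg => ?_, by rw [inv_inv, hxe]; exact monGL_mem _ _⟩
    have hgN : g ∈ Subgroup.normalizer (monSub p F : Set (GL (Fin p) F)) := by
      simpa using inv_mem hg
    refine diag_not_embed hω h3 hc ha hxa (MulAut.conj g).toMonoidHom (MulAut.conj g).injective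
      (fun d => conj_mem_of_mem_normalizer hgN (monGL_mem d 0)) (fun d => ?_)
    show x * (g * monGL d 0 * g⁻¹) = g * monGL d 0 * g⁻¹ * x
    have hx' : x = g * D * g⁻¹ := by rw [← he, mul_inv_cancel_right]
    have hcm : D * monGL d 0 = monGL d 0 * D := by
      refine Units.ext ?_
      show mon _ 0 * mon _ 0 = mon _ 0 * mon _ 0
      rw [mon_mul, mon_mul]
      simp [mul_comm]
    rw [hx']
    calc g * D * g⁻¹ * (g * monGL d 0 * g⁻¹) = g * (D * monGL d 0) * g⁻¹ := by group
      _ = g * monGL d 0 * g⁻¹ * (g * D * g⁻¹) := by rw [hcm]; group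
  · set g : GL (Fin p) F :=
      GeneralLinearGroup.mkOfDetNeZero (mon a c - 1) (det_sub_one_ne_zero hc ha hprod)
    have hgx : g * x = x * g := by
      refine Units.ext ?_
      rw [Units.val_mul, Units.val_mul, hxa]
      show (mon a c - 1) * mon a c = mon a c * (mon a c - 1)
      rw [sub_mul, mul_sub, one_mul, mul_one]
    exact ⟨g, sub_one_not_normalizes hω h3 hc ha g rfl,
      by rw [hgx, mul_inv_cancel_right]; exact ⟨a, c, ha, hxa⟩⟩

theorem factorization_card_GL (hp : p ≠ 2) (h1 : p ∣ Fintype.card F - 1)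
    (h2 : ¬ p ^ 2 ∣ Fintype.card F - 1) :
    (Nat.card (GL (Fin p) F)).factorization p = p + 1 := by
  have hpp : p.Prime := Fact.out
  set q := Fintype.card F with hq
  have hq1 : 1 < q := Fintype.one_lt_card
  have hv1 : padicValNat p (q - 1) = 1 := by
    have h0 : q - 1 ≠ 0 := by omega
    have ha : 1 ≤ padicValNat p (q - 1) := one_le_padicValNat_of_dvd h0 h1
    have hb : ¬ 2 ≤ padicValNat p (q - 1) := fun h =>
      h2 ((padicValNat_dvd_iff_le h0).2 h)
    omega
  have hpq : ¬ p ∣ q := fun h => by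
    have := Nat.dvd_sub h h1
    rw [show q - (q - 1) = 1 by omega] at this
    exact hpp.not_dvd_one this
  have hterm : ∀ i : Fin p, padicValNat p (q ^ p - q ^ (i : ℕ)) =
      1 + padicValNat p (p - (i : ℕ)) := by
    intro i
    have hi : q ^ p - q ^ (i : ℕ) = q ^ (i : ℕ) * (q ^ (p - (i : ℕ)) - 1) := by
      rw [Nat.mul_sub, ← pow_add, mul_one, Nat.add_sub_cancel' i.2.le]
    have hne : q ^ (p - (i : ℕ)) - 1 ≠ 0 := by
      have : 1 < q ^ (p - (i : ℕ)) := Nat.one_lt_pow (by have := i.2; omega) hq1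
      omega
    rw [hi, padicValNat.mul (pow_ne_zero _ (by omega)) hne,
      padicValNat.eq_zero_of_not_dvd (fun h => hpq (hpp.dvd_of_dvd_pow h)), zero_add,
      show q ^ (p - (i : ℕ)) - 1 = q ^ (p - (i : ℕ)) - 1 ^ (p - (i : ℕ)) by rw [one_pow],
      padicValNat.pow_sub_pow (hpp.odd_of_ne_two hp) hq1 h1 hpq (by have := i.2; omega), hv1]
  rw [Matrix.card_GL_field, ← hq, Nat.factorization_def _ hpp]
  have hne : ∀ i : Fin p, q ^ p - q ^ (i : ℕ) ≠ 0 := fun i => by
    have := Nat.pow_lt_pow_right hq1 i.2; omega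
  have hprod : ∀ s : Finset (Fin p), padicValNat p (∏ i ∈ s, (q ^ p - q ^ (i : ℕ))) =
      ∑ i ∈ s, padicValNat p (q ^ p - q ^ (i : ℕ)) := by
    intro s
    induction s using Finset.induction with
    | empty => simp
    | insert i s his ih =>
      rw [Finset.prod_insert his, Finset.sum_insert his,
        padicValNat.mul (hne i) (Finset.prod_ne_zero_iff.2 fun j _ => hne j), ih]
  rw [hprod, Finset.sum_congr rfl (fun i _ => hterm i), Finset.sum_add_distrib, Finset.sum_const,
    Finset.card_univ, Fintype.card_fin, smul_eq_mul, mul_one]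
  congr 1
  rw [Finset.sum_eq_single (0 : Fin p)]
  · simpa using padicValNat_self (p := p)
  · intro i _ hi
    refine padicValNat.eq_zero_of_not_dvd fun h => ?_
    have hi' : 0 < (i : ℕ) := Nat.pos_of_ne_zero fun h0 => hi (Fin.ext h0)
    have := Nat.le_of_dvd (by have := i.2; omega) h
    omega
  · simp

theorem exists_redundant (hp : p ≠ 2) (h1 : p ∣ Fintype.card F - 1)
    (h2 : ¬ p ^ 2 ∣ Fintype.card F - 1) :
    ∃ Q : Sylow p (GL (Fin p) F), ∀ x : GL (Fin p) F,
      (∃ k : ℕ, orderOf x = p ^ k) → ∃ P : Sylow p (GL (Fin p) F), P ≠ Q ∧ x ∈ P := by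
  classical
  have hpp : p.Prime := Fact.out
  have h3 : 3 ≤ p := by have := hpp.two_le; omega
  obtain ⟨u, hu⟩ := exists_prime_orderOf_dvd_card p (G := Fˣ) (by rwa [Fintype.card_units])
  have hω : IsPrimitiveRoot ((u : Fˣ) : F) p := by
    rw [← hu, ← orderOf_units]; exact IsPrimitiveRoot.orderOf _
  let Q : Sylow p (GL (Fin p) F) := Sylow.ofCard (monSub p F)
    (by rw [card_monSub hω, factorization_card_GL hp h1 h2])
  have hQ : (Q : Subgroup (GL (Fin p) F)) = monSub p F := Sylow.coe_ofCard _ _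
  refine ⟨Q, fun x hx => ?_⟩
  by_cases hxQ : x ∈ monSub p F
  · obtain ⟨g, hg, hgx⟩ := moved hω h3 hxQ
    refine ⟨g⁻¹ • Q, fun h => hg ?_, ?_⟩
    · have := (Sylow.smul_eq_iff_mem_normalizer.1 h)
      rw [show (Q : Set (GL (Fin p) F)) = (monSub p F : Set (GL (Fin p) F)) from congrArg SetLike.coe hQ] at this
      simpa using inv_mem this
    · show x ∈ ((g⁻¹ • Q : Sylow p (GL (Fin p) F)) : Subgroup (GL (Fin p) F))
      rw [Sylow.coe_subgroup_smul, hQ, Subgroup.mem_pointwise_smul_iff_inv_smul_mem]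
      simpa [MulAut.smul_def] using hgx
  · obtain ⟨k, hk⟩ := hx
    obtain ⟨P, hP⟩ := (IsPGroup.of_card (n := k) (by rw [Nat.card_zpowers, hk]) :
      IsPGroup p (Subgroup.zpowers x)).exists_le_sylow
    refine ⟨P, fun h => hxQ ?_, hP (Subgroup.mem_zpowers x)⟩
    rw [← hQ, ← h]
    exact hP (Subgroup.mem_zpowers x)

end Cfsg.Agent.Lib.RedundantGL
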